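import Groth.Agent.AdjLin.K134.OrdId
import Groth.Agent.Divis.StalkPrime
import Groth.Agent.Etalg.NormalDvr
import Groth.Agent.ModPair.K971.Basic
import Mathlib.AlgebraicGeometry.Properties

/-!
# Effective Cartier divisors on a normal scheme and their orders in codimension one

`X` integral, locally Noetherian, with integrally closed local rings.
* `le_of_codim_one`: `I` effective Cartier, `I1_x ≤ I_x` at all points of codimension one, then `I1 ≤ I`.
* `exists_mul_of_codim_one`: if `I1` is effective Cartier too, `I1 = I * J` with `J` effective Cartier.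
* `mult I x`: the order (a natural number) of `I` at a point whose local ring is a discrete valuation ring;
  `mult_mul`, `mult_pow`, `mult_le_iff`, `mult_eq_zero_iff`, `mult_pos_iff`.
* `le_of_mult`, `exists_mul_of_mult`, `eq_of_mult`.
-/

set_option autoImplicit false
universe u

open CategoryTheory CategoryTheory.Limits AlgebraicGeometry TopologicalSpace

namespace K292.NormDiv

open Groth.Agent.Divis.CartierBasic Groth.Agent.CycB.LocQuot Groth.Agent.Divis.StalkPrime K134.OrdId

variable {X : Scheme.{u}}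

theorem stalkIdeal_specializes (I : X.IdealSheafData) {x y : X} (h : y ⤳ x) :
    stalkIdeal I y = (stalkIdeal I x).map (X.presheaf.stalkSpecializes h).hom := by
  obtain ⟨U, hxU⟩ := exists_affine x
  have hyU : y ∈ U.1 := h.mem_open U.1.2 hxU
  rw [stalkIdeal_eq I U hxU, stalkIdeal_eq I U hyU, Ideal.map_map, ← CommRingCat.hom_comp,
    TopCat.Presheaf.germ_stalkSpecializes]

/-- membership in the stalk ideal at a generization, denominators cleared -/
theorem exists_mul_mem {x y : X} (h : y ⤳ x) (I : Ideal (X.presheaf.stalk x)) (a : X.presheaf.stalk x)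
    (ha : (X.presheaf.stalkSpecializes h).hom a ∈ I.map (X.presheaf.stalkSpecializes h).hom) :
    ∃ s ∉ (primeOf h).asIdeal, s * a ∈ I := by
  let := (X.presheaf.stalkSpecializes h).hom.toAlgebra
  have hloc := isLocalization_stalkSpecializes h
  have h4 : algebraMap (X.presheaf.stalk x) (X.presheaf.stalk y) a ∈
      I.map (algebraMap (X.presheaf.stalk x) (X.presheaf.stalk y)) := ha
  rw [IsLocalization.algebraMap_mem_map_algebraMap_iff (RingHom.ker (Cyc.specMap x y h)).primeCompl] at h4
  obtain ⟨s, hsP, hsf⟩ := h4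
  refine ⟨s, ?_, hsf⟩
  rw [primeOf_asIdeal]
  exact hsP

/-- a height one prime of the local ring at `x` is a point of codimension one specializing to `x` -/
theorem coheight_ptOf {x : X} (q : PrimeSpectrum (X.presheaf.stalk x)) (hq : q.asIdeal.height = 1) :
    Order.coheight (ptOf q) = 1 := by
  have h1 := height_eq q
  rw [ringKrullDim_stalk_eq_coheight, hq] at h1
  exact_mod_cast h1

section Normal

variable [IsIntegral X] [IsLocallyNoetherian X]

theorem le_of_codim_one (hn : ∀ x : X, IsIntegrallyClosed (X.presheaf.stalk x)) {I I1 : X.IdealSheafData}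
    (hI : BlowUp.IsEffCartierIdeal I)
    (h : ∀ x : X, Order.coheight x = 1 → stalkIdeal I1 x ≤ stalkIdeal I x) : I1 ≤ I := by
  refine le_of_stalkIdeal fun x => ?_
  obtain ⟨g, hg, hg'⟩ := exists_stalkIdeal_eq_span hI x
  intro a ha
  rw [hg']
  have := hn x
  refine Groth.Agent.Etalg.NormalDvr.mem_span_of_forall_height_one (X.presheaf.stalk x)
    (nonZeroDivisors.ne_zero hg) fun P hP hP1 => ?_
  let q : PrimeSpectrum (X.presheaf.stalk x) := ⟨P, hP⟩
  have h1 : (X.presheaf.stalkSpecializes (ptOf_specializes q)).hom a ∈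
      (stalkIdeal I x).map (X.presheaf.stalkSpecializes (ptOf_specializes q)).hom := by
    rw [← stalkIdeal_specializes]
    refine h _ (coheight_ptOf q hP1) ?_
    rw [stalkIdeal_specializes I1 (ptOf_specializes q)]
    exact Ideal.mem_map_of_mem _ ha
  obtain ⟨s, hs, hsa⟩ := exists_mul_mem _ _ _ h1
  rw [primeOf_ptOf] at hs
  rw [hg'] at hsa
  exact ⟨s, hs, hsa⟩

theorem exists_mul_of_codim_one (hn : ∀ x : X, IsIntegrallyClosed (X.presheaf.stalk x)) {I I1 : X.IdealSheafData}
    (hI : BlowUp.IsEffCartierIdeal I) (hI1 : BlowUp.IsEffCartierIdeal I1)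
    (h : ∀ x : X, Order.coheight x = 1 → stalkIdeal I1 x ≤ stalkIdeal I x) :
    ∃ J : X.IdealSheafData, BlowUp.IsEffCartierIdeal J ∧ I1 = I * J := by
  obtain ⟨J, hJ, e⟩ := K971.Basic.exists_mul_eq hI hI1 (le_of_codim_one hn hI h)
  exact ⟨J, hJ, by rw [← e, mul_comm]⟩

theorem isDVR_of_coheight (x : X) (hX : IsIntegrallyClosed (X.presheaf.stalk x)) (hx : Order.coheight x = 1) :
    IsDiscreteValuationRing (X.presheaf.stalk x) := by
  have h1 := ringKrullDim_stalk_eq_coheight x
  rw [hx] at h1
  have hfield : ¬ IsField (X.presheaf.stalk x) := by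
    intro hF
    rw [ringKrullDim_eq_zero_of_isField hF] at h1
    exact absurd h1 (by decide)
  have h2 : Ring.KrullDimLE 1 (X.presheaf.stalk x) := krullDimLE_of_coheight_le hx.le
  have h3 : IsDiscreteValuationRing (X.presheaf.stalk x) ↔
      (IsIntegrallyClosed (X.presheaf.stalk x) ∧
        ∃! P : Ideal (X.presheaf.stalk x), P ≠ ⊥ ∧ P.IsPrime) :=
    (IsDiscreteValuationRing.TFAE (X.presheaf.stalk x) hfield).out 0 3
  refine h3.mpr ⟨hX, IsLocalRing.maximalIdeal _, ⟨?_, inferInstance⟩, ?_⟩
  · intro hbot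
    exact hfield (IsLocalRing.isField_iff_maximalIdeal_eq.mpr hbot)
  · rintro P ⟨hP0, hP⟩
    exact IsLocalRing.eq_maximalIdeal (Ring.krullDimLE_one_iff_of_noZeroDivisors.mp h2 P hP0 hP)

end Normal

section Mult

/-- The order of an ideal sheaf at a point whose local ring is a discrete valuation ring (`0` if the order is
infinite, or if the local ring is not a discrete valuation ring). -/
noncomputable def mult [IsIntegral X] (I : X.IdealSheafData) (x : X) : ℕ := by
  classical
  exact if h : IsDiscreteValuationRing (X.presheaf.stalk x) then (haveI := h; (ordI I x).toNat) else 0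

variable [IsIntegral X]

theorem mult_eq (I : X.IdealSheafData) (x : X) [h : IsDiscreteValuationRing (X.presheaf.stalk x)] :
    mult I x = (ordI I x).toNat := dif_pos h

theorem ordI_ne_top {I : X.IdealSheafData} (hI : BlowUp.IsEffCartierIdeal I) (x : X)
    [IsDiscreteValuationRing (X.presheaf.stalk x)] : ordI I x ≠ ⊤ := by
  rw [Ne, ordI_eq_top_iff]
  obtain ⟨g, hg, hg'⟩ := exists_stalkIdeal_eq_span hI x
  rw [hg', Ideal.span_singleton_eq_bot]
  exact nonZeroDivisors.ne_zero hg

theorem coe_mult {I : X.IdealSheafData} (hI : BlowUp.IsEffCartierIdeal I) (x : X)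
    [IsDiscreteValuationRing (X.presheaf.stalk x)] : ((mult I x : ℕ) : ℕ∞) = ordI I x := by
  rw [mult_eq, ENat.natCast_toNat (ordI_ne_top hI x)]

theorem mult_mul {I J : X.IdealSheafData} (hI : BlowUp.IsEffCartierIdeal I) (hJ : BlowUp.IsEffCartierIdeal J)
    (x : X) : mult (I * J) x = mult I x + mult J x := by
  by_cases h : IsDiscreteValuationRing (X.presheaf.stalk x)
  · rw [mult_eq, mult_eq, mult_eq, ordI_mul, ENat.toNat_add (ordI_ne_top hI x) (ordI_ne_top hJ x)]
  · simp only [mult, dif_neg h]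

theorem mult_pow {I : X.IdealSheafData} (hI : BlowUp.IsEffCartierIdeal I) (n : ℕ) (x : X) :
    mult (I ^ n) x = n * mult I x := by
  induction n with
  | zero =>
    rw [pow_zero, zero_mul]
    by_cases h : IsDiscreteValuationRing (X.presheaf.stalk x)
    · rw [mult_eq, ordI_one]; rfl
    · simp only [mult, dif_neg h]
  | succ n ih =>
    rw [pow_succ, mult_mul (Groth.Agent.Divis.EffCartier.isEff_pow hI n) hI, ih, add_mul, one_mul]

theorem mult_of_notMem {I : X.IdealSheafData} {x : X} (hx : x ∉ I.support) : mult I x = 0 := by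
  by_cases h : IsDiscreteValuationRing (X.presheaf.stalk x)
  · rw [mult_eq, (ordI_eq_zero_iff x I).2 hx]; rfl
  · simp only [mult, dif_neg h]

variable [IsLocallyNoetherian X]

theorem mult_eq_zero_iff (hn : ∀ x : X, IsIntegrallyClosed (X.presheaf.stalk x)) {I : X.IdealSheafData}
    (hI : BlowUp.IsEffCartierIdeal I) {x : X} (hx : Order.coheight x = 1) : mult I x = 0 ↔ x ∉ I.support := by
  have := isDVR_of_coheight x (hn x) hx
  rw [← ordI_eq_zero_iff, ← coe_mult hI x]
  norm_cast

theorem mult_pos_iff (hn : ∀ x : X, IsIntegrallyClosed (X.presheaf.stalk x)) {I : X.IdealSheafData}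
    (hI : BlowUp.IsEffCartierIdeal I) {x : X} (hx : Order.coheight x = 1) : 0 < mult I x ↔ x ∈ I.support := by
  rw [Nat.pos_iff_ne_zero, Ne, mult_eq_zero_iff hn hI hx, not_not]

theorem mult_le_iff (hn : ∀ x : X, IsIntegrallyClosed (X.presheaf.stalk x)) {I I1 : X.IdealSheafData}
    (hI : BlowUp.IsEffCartierIdeal I) (hI1 : BlowUp.IsEffCartierIdeal I1) {x : X} (hx : Order.coheight x = 1) :
    mult I x ≤ mult I1 x ↔ stalkIdeal I1 x ≤ stalkIdeal I x := by
  have := isDVR_of_coheight x (hn x) hx
  rw [← ord_le_iff]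
  change _ ↔ ordI I x ≤ ordI I1 x
  rw [← coe_mult hI x, ← coe_mult hI1 x]
  norm_cast

theorem le_of_mult (hn : ∀ x : X, IsIntegrallyClosed (X.presheaf.stalk x)) {I I1 : X.IdealSheafData}
    (hI : BlowUp.IsEffCartierIdeal I) (hI1 : BlowUp.IsEffCartierIdeal I1)
    (h : ∀ x : X, Order.coheight x = 1 → mult I x ≤ mult I1 x) : I1 ≤ I :=
  le_of_codim_one hn hI fun x hx => (mult_le_iff hn hI hI1 hx).1 (h x hx)

/-- **(NORM)** -/
theorem exists_mul_of_mult (hn : ∀ x : X, IsIntegrallyClosed (X.presheaf.stalk x)) {I I1 : X.IdealSheafData}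
    (hI : BlowUp.IsEffCartierIdeal I) (hI1 : BlowUp.IsEffCartierIdeal I1)
    (h : ∀ x : X, Order.coheight x = 1 → mult I x ≤ mult I1 x) :
    ∃ J : X.IdealSheafData, BlowUp.IsEffCartierIdeal J ∧ I1 = I * J :=
  exists_mul_of_codim_one hn hI hI1 fun x hx => (mult_le_iff hn hI hI1 hx).1 (h x hx)

theorem eq_of_mult (hn : ∀ x : X, IsIntegrallyClosed (X.presheaf.stalk x)) {I I1 : X.IdealSheafData}
    (hI : BlowUp.IsEffCartierIdeal I) (hI1 : BlowUp.IsEffCartierIdeal I1)
    (h : ∀ x : X, Order.coheight x = 1 → mult I x = mult I1 x) : I = I1 :=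
  le_antisymm (le_of_mult hn hI1 hI fun x hx => (h x hx).ge) (le_of_mult hn hI hI1 fun x hx => (h x hx).le)

end Mult

end K292.NormDiv
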